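import Groth.Agent.Lib.OX.RHomRestrict
import Groth.Agent.Lib.OX.RHomDual
import Groth.Agent.Lib.OX.HomTri
import Groth.Agent.Lib.OX.AffineLocal
import Mathlib.Algebra.Homology.BifunctorShift

/-! # Objectwise formulas for the derived tensor product, and a criterion for counits -/

set_option autoImplicit false
set_option linter.style.haveILetI false
set_option maxHeartbeats 1000000
universe u

open CategoryTheory CategoryTheory.Limits AlgebraicGeometry HomologicalComplex GrothLib.OX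

attribute [local instance] HasDerivedCategory.standard

namespace GrothLib.Dual22

section Abstract

variable {C D : Type*} [Category C] [Category D] {F : C ⥤ D} {G : D ⥤ C} (adj : F ⊣ G)

/-- If `G M` is isomorphic to some `S` with `F S ≅ M` and endomorphisms of `M` commute, the counit at `M`
is invertible. -/
theorem isIso_counit_of_comm {S : C} {M : D} (u : S ≅ G.obj M) (θ : F.obj S ≅ M)
    (hcomm : ∀ a b : M ⟶ M, a ≫ b = b ≫ a) : IsIso (adj.counit.app M) := by
  let b : S ⟶ S := adj.homEquiv S M θ.hom ≫ u.inv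
  let v : F.obj S ⟶ M := F.map u.hom ≫ adj.counit.app M
  have hθ : F.map b ≫ v = θ.hom := by
    show F.map b ≫ F.map u.hom ≫ adj.counit.app M = _
    rw [← Category.assoc, ← F.map_comp]
    simp [b, Adjunction.homEquiv_unit]
  have h : (θ.inv ≫ F.map b ≫ θ.hom) ≫ (θ.inv ≫ v) = 𝟙 M := by simp [hθ]
  haveI : IsIso (θ.inv ≫ v) := ⟨θ.inv ≫ F.map b ≫ θ.hom, by rw [hcomm]; exact h, h⟩
  haveI : IsIso v := IsIso.of_isIso_comp_left θ.inv v
  exact IsIso.of_isIso_comp_left (F.map u.hom) (adj.counit.app M)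

/-- An endomorphism of a commutative endomorphism monoid whose image is split epi is invertible, when the
counit is invertible. -/
theorem isIso_of_split_epi_map {M : D} [IsIso (adj.counit.app M)] (hcomm : ∀ a b : M ⟶ M, a ≫ b = b ≫ a)
    (f : M ⟶ M) (h : G.obj M ⟶ G.obj M) (hh : h ≫ G.map f = 𝟙 (G.obj M)) : IsIso f := by
  let g : M ⟶ M := inv (adj.counit.app M) ≫ F.map h ≫ adj.counit.app M
  have hg : G.map g = h := by
    refine (adj.homEquiv _ _).symm.injective ?_
    rw [adj.homEquiv_counit, adj.homEquiv_counit, adj.counit_naturality]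
    exact IsIso.hom_inv_id_assoc _ _
  have h1 : g ≫ f = 𝟙 M := by
    have h2 : G.map (g ≫ f) = G.map (𝟙 M) := by rw [G.map_comp, hg, hh, G.map_id]
    have h3 := congrArg (fun t => F.map t ≫ adj.counit.app M) h2
    have h4 : adj.counit.app M ≫ (g ≫ f) = adj.counit.app M ≫ 𝟙 M :=
      (adj.counit_naturality _).symm.trans (h3.trans (adj.counit_naturality _))
    exact (cancel_epi (adj.counit.app M)).1 h4
  exact ⟨g, (hcomm f g).trans h1, h1⟩

end Abstract

variable {X U : Scheme.{u}}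

/-- Restriction of a derived tensor product. -/
theorem nonempty_resD_ltensorCx (j : U ⟶ X) [IsOpenImmersion j] (K : CochainComplex X.Modules ℤ)
    [DCoh.HasLTensorCx K] [DCoh.HasLTensorCx ((resCx j).obj K)] (A : DCoh.D X) :
    Nonempty ((resD j).obj ((DCoh.LTensorCx K).obj A) ≅
      (DCoh.LTensorCx ((resCx j).obj K)).obj ((resD j).obj A)) := by
  obtain ⟨P, hP, ⟨e⟩⟩ := exists_kflat_rep A
  obtain ⟨v⟩ := ltensorCx_value K P hP
  obtain ⟨v'⟩ := ltensorCx_value ((resCx j).obj K) ((resCx j).obj P) (isKFlat_resCx j hP)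
  exact ⟨(resD j).mapIso ((DCoh.LTensorCx K).mapIso e.symm ≪≫ v) ≪≫ (resDFac j).app _ ≪≫
    DerivedCategory.Q.mapIso ((resTensNatIso j K).app P) ≪≫ v'.symm ≪≫
    (DCoh.LTensorCx ((resCx j).obj K)).mapIso (((resDFac j).app P).symm ≪≫ (resD j).mapIso e)⟩

/-- Tensoring with a shift of the structure sheaf shifts. -/
theorem nonempty_ltensorCx_shift_unit (E : CochainComplex X.Modules ℤ) [DCoh.HasLTensorCx E] (n : ℤ) :
    Nonempty ((DCoh.LTensorCx E).obj ((DCoh.inD X (Coh.structureModule X))⟦n⟧) ≅ (DerivedCategory.Q.obj E)⟦n⟧) := by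
  obtain ⟨P, q, hP, -, hq, -⟩ := exists_kflat_resolution E
  haveI := hasLTensorCx P
  obtain ⟨a⟩ := nonempty_ltensorCx_congr q
  obtain ⟨w⟩ := ltensorCx_value_of_isKFlat P hP ((unitCx X)⟦n⟧)
  let Qn := fun K : CochainComplex X.Modules ℤ => ((DerivedCategory.Q (C := X.Modules)).commShiftIso n).app K
  let s : ((DCoh.tensorCx (X := X)).obj ((unitCx X)⟦n⟧)).obj P ≅
      (((DCoh.tensorCx (X := X)).obj (unitCx X)).obj P)⟦n⟧ :=
    CochainComplex.mapBifunctorShift₁Iso (unitCx X) P (DCoh.tensorBi (X := X)) n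
  let t : ((DCoh.tensorCx (X := X)).obj (unitCx X)).obj P ≅ P :=
    ((tensorFlipIso (unitCx X)).app P).symm ≪≫ (singleUnitNatIso (X := X)).app P
  exact ⟨a.symm.app _ ≪≫ (DCoh.LTensorCx P).mapIso ((shiftFunctor (DCoh.D X) n).mapIso (unitCxQIso X).symm ≪≫
      (Qn (unitCx X)).symm) ≪≫ w ≪≫ DerivedCategory.Q.mapIso (s ≪≫ (shiftFunctor _ n).mapIso t) ≪≫ Qn P ≪≫
      (shiftFunctor (DCoh.D X) n).mapIso (asIso (DerivedCategory.Q.map q))⟩

end GrothLib.Dual22
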