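import Groth.Agent.Lib.Dual22.TensorShift
import Groth.Agent.Lib.OX.LocalTensor
import Groth.Agent.Lib.OX.ExtZeroD
import Groth.Agent.Lib.Detect22.PerfectDetect
import Groth.Agent.Lib.OX.LocFreeTensor
import Mathlib.Algebra.Homology.BifunctorShift
import Mathlib.Algebra.Homology.DerivedCategory.Fractions

/-! # The map into a double dual and what it induces on morphisms into the dualizing object -/

set_option autoImplicit false
set_option linter.style.haveILetI false
set_option maxHeartbeats 2000000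
universe u

open CategoryTheory CategoryTheory.Limits AlgebraicGeometry HomologicalComplex GrothLib.OX

attribute [local instance] HasDerivedCategory.standard

namespace GrothLib.Dual22

variable {X U : Scheme.{u}}

/-- The counit of the derived tensor product. -/
noncomputable abbrev cnt (E : CochainComplex X.Modules ℤ) [DCoh.HasLTensorCx E] :
    DerivedCategory.Q ⋙ DCoh.LTensorCx E ⟶ DCoh.tensorCxQ E :=
  (DCoh.tensorCxQ E).totalLeftDerivedCounit DerivedCategory.Q
    (HomologicalComplex.quasiIso X.Modules (ComplexShape.up ℤ))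

theorem isIso_cnt_app (E : CochainComplex X.Modules ℤ) [DCoh.HasLTensorCx E] {P : CochainComplex X.Modules ℤ}
    (hP : DCoh.IsKFlat P) : IsIso ((cnt E).app P) :=
  (cxResolvable_tensor E).isIso_app_of_isLeftDerivedFunctor (DCoh.LTensorCx E) (cnt E) hP

/-- Functoriality of the derived tensor product in the complex. -/
noncomputable def liftMap {T M : CochainComplex X.Modules ℤ} [DCoh.HasLTensorCx T] [DCoh.HasLTensorCx M]
    (b : T ⟶ M) : DCoh.LTensorCx T ⟶ DCoh.LTensorCx M :=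
  Functor.leftDerivedNatTrans (DCoh.LTensorCx T) (DCoh.LTensorCx M) (cnt T) (cnt M)
    (HomologicalComplex.quasiIso X.Modules (ComplexShape.up ℤ))
    (Functor.whiskerRight ((DCoh.tensorCx (X := X)).flip.map b) DerivedCategory.Q)

theorem liftMap_app {T M : CochainComplex X.Modules ℤ} [DCoh.HasLTensorCx T] [DCoh.HasLTensorCx M]
    (b : T ⟶ M) (A : CochainComplex X.Modules ℤ) :
    (liftMap b).app (DerivedCategory.Q.obj A) ≫ (cnt M).app A =
      (cnt T).app A ≫ DerivedCategory.Q.map (((DCoh.tensorCx (X := X)).obj A).map b) :=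
  Functor.leftDerivedNatTrans_app _ _ (cnt T) (cnt M) _ _ A

theorem isIso_liftMap_app {T M : CochainComplex X.Modules ℤ} [DCoh.HasLTensorCx T] [DCoh.HasLTensorCx M]
    (b : T ⟶ M) [QuasiIso b] (Z : DCoh.D X) : IsIso ((liftMap b).app Z) := by
  obtain ⟨P, hP, ⟨e⟩⟩ := exists_kflat_rep Z
  refine (NatTrans.isIso_app_iff_of_iso (liftMap b) e).1 ?_
  haveI := isIso_cnt_app T hP
  haveI := isIso_cnt_app M hP
  haveI : IsIso (DerivedCategory.Q.map (((DCoh.tensorCx (X := X)).obj P).map b)) :=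
    haveI := quasiIso_tensor_map_of_isKFlat b P hP
    inferInstance
  exact @IsIso.of_isIso_fac_right _ _ _ _ _ _ _ _ (by assumption)
    (inferInstanceAs (IsIso ((cnt T).app P ≫ DerivedCategory.Q.map (((DCoh.tensorCx (X := X)).obj P).map b))))
    (liftMap_app b P)

variable {P : CochainComplex X.Modules ℤ} [DCoh.HasLTensorCx P] (hP : DCoh.IsKFlat P)

/-- The symmetry of the derived tensor product, at classes of complexes. -/
noncomputable def swap (T : CochainComplex X.Modules ℤ) [DCoh.HasLTensorCx T] :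
    (DCoh.LTensorCx T).obj (DerivedCategory.Q.obj P) ≅ (DCoh.LTensorCx P).obj (DerivedCategory.Q.obj T) :=
  haveI := isIso_cnt_app T hP
  haveI : IsIso ((cnt P).app T) := isIso_counit_of_isKFlat P hP T
  asIso ((cnt T).app P) ≪≫ DerivedCategory.Q.mapIso ((tensorFlipIso P).app T).symm ≪≫ (asIso ((cnt P).app T)).symm

include hP in
theorem swap_natural {T M : CochainComplex X.Modules ℤ} [DCoh.HasLTensorCx T] [DCoh.HasLTensorCx M]
    (b : T ⟶ M) :
    (liftMap b).app (DerivedCategory.Q.obj P) ≫ (swap hP M).hom =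
      (swap hP T).hom ≫ (DCoh.LTensorCx P).map (DerivedCategory.Q.map b) := by
  haveI := isIso_cnt_app M hP
  haveI : IsIso ((cnt P).app M) := isIso_counit_of_isKFlat P hP M
  haveI := isIso_cnt_app T hP
  haveI : IsIso ((cnt P).app T) := isIso_counit_of_isKFlat P hP T
  have h1 : (DCoh.LTensorCx P).map (DerivedCategory.Q.map b) ≫ (cnt P).app M =
      (cnt P).app T ≫ DerivedCategory.Q.map (((DCoh.tensorCx (X := X)).flip.obj P).map b) :=
    (cnt P).naturality b
  have h2 : ((DCoh.tensorCx (X := X)).obj P).map b ≫ (tensorFlipIso P).inv.app M =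
      (tensorFlipIso P).inv.app T ≫ ((DCoh.tensorCx (X := X)).flip.obj P).map b :=
    (tensorFlipIso P).inv.naturality b
  rw [← cancel_mono ((cnt P).app M)]
  simp only [swap, Iso.trans_hom, asIso_hom, Functor.mapIso_hom, Iso.symm_hom, Iso.app_inv, asIso_inv, Category.assoc,
    IsIso.inv_hom_id, Category.comp_id]
  rw [reassoc_of% (liftMap_app b P)]
  erw [← DerivedCategory.Q.map_comp, h2, DerivedCategory.Q.map_comp, h1, IsIso.inv_hom_id_assoc]

include hP in
/-- **The map into the double dual is surjective on morphisms into the dualizing object.** -/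
theorem exists_dual_map {G G' : DCoh.D X ⥤ DCoh.D X} (adj : DCoh.LTensorCx P ⊣ G)
    (M : CochainComplex X.Modules ℤ) [DCoh.HasLTensorCx M] (adj' : DCoh.LTensorCx M ⊣ G') (K : DCoh.D X)
    (e : DerivedCategory.Q.obj M ≅ G.obj K) :
    ∃ η : DerivedCategory.Q.obj P ⟶ G'.obj K, ∀ (T : CochainComplex X.Modules ℤ) [DCoh.HasLTensorCx T]
      (f : (DCoh.LTensorCx T).obj (DerivedCategory.Q.obj P) ⟶ K),
        ∃ g, (DCoh.LTensorCx T).map η ≫ g = f := by
  let ev := (swap hP M).hom ≫ (DCoh.LTensorCx P).map e.hom ≫ adj.counit.app K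
  let η := adj'.homEquiv _ _ ev
  refine ⟨η, fun T _ f => ?_⟩
  have hη : (DCoh.LTensorCx M).map η ≫ adj'.counit.app K = ev :=
    (adj'.homEquiv_counit _ _ η).symm.trans ((adj'.homEquiv _ _).symm_apply_apply ev)
  let a := adj.homEquiv _ _ ((swap hP T).inv ≫ f)
  have ha : (DCoh.LTensorCx P).map a ≫ adj.counit.app K = (swap hP T).inv ≫ f :=
    (adj.homEquiv_counit _ _ a).symm.trans ((adj.homEquiv _ _).symm_apply_apply _)
  obtain ⟨T', s, hs, b, hb⟩ := DerivedCategory.right_fac (a ≫ e.inv)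
  haveI := hs
  haveI : QuasiIso s := (DerivedCategory.isIso_Q_map_iff_quasiIso _ s).1 hs
  haveI := hasLTensorCx T'
  haveI : ∀ Z, IsIso ((liftMap s).app Z) := isIso_liftMap_app s
  refine ⟨inv ((liftMap s).app (G'.obj K)) ≫ (liftMap b).app (G'.obj K) ≫ adj'.counit.app K, ?_⟩
  have h1 : (DCoh.LTensorCx T).map η ≫ inv ((liftMap s).app (G'.obj K)) =
      inv ((liftMap s).app (DerivedCategory.Q.obj P)) ≫ (DCoh.LTensorCx T').map η := by
    rw [IsIso.comp_inv_eq, Category.assoc, IsIso.eq_inv_comp]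
    exact ((liftMap s).naturality η).symm
  rw [reassoc_of% h1, reassoc_of% ((liftMap b).naturality η), hη, IsIso.inv_comp_eq]
  simp only [ev]
  rw [reassoc_of% (swap_natural hP b), ← Iso.cancel_iso_inv_left (swap hP T'), Iso.inv_hom_id_assoc]
  have h2 : (swap hP T').inv ≫ (liftMap s).app (DerivedCategory.Q.obj P) =
      (DCoh.LTensorCx P).map (DerivedCategory.Q.map s) ≫ (swap hP T).inv := by
    rw [Iso.inv_comp_eq, ← Category.assoc, Iso.eq_comp_inv, swap_natural hP s]
  rw [reassoc_of% h2, ← ha, ← Functor.map_comp_assoc, ← Functor.map_comp_assoc]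
  congr 2
  rw [← Iso.eq_comp_inv, Category.assoc, hb, IsIso.hom_inv_id_assoc]

/-- Tensoring with a K-flat complex commutes with the shift of that complex. -/
theorem isKFlat_shift {T : CochainComplex X.Modules ℤ} (hT : DCoh.IsKFlat T) (n : ℤ) : DCoh.IsKFlat (T⟦n⟧) := by
  refine (isKFlat_iff _).2 fun L hL => ?_
  refine DerCat.acyclic_of_iso ((((DCoh.tensorCx (X := X)).obj L).commShiftIso n).app T).symm ?_
  intro i
  rw [HomologicalComplex.exactAt_iff_isZero_homology]
  exact ((HomologicalComplex.exactAt_iff_isZero_homology _ _).1 ((isKFlat_iff T).1 hT L hL (i + n))).of_iso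
    (((HomologicalComplex.homologyFunctor X.Modules (ComplexShape.up ℤ) 0).shiftIso n i (i + n) (by omega)).app _)

/-- `- ⊗ T⟦n⟧ = (- ⊗ T)⟦n⟧`, naturally. -/
noncomputable def tensRShiftIso (T : CochainComplex X.Modules ℤ) (n : ℤ) :
    tensR (T⟦n⟧) ≅ tensR T ⋙ shiftFunctor (CochainComplex X.Modules ℤ) n :=
  NatIso.ofComponents (fun A => (((DCoh.tensorCx (X := X)).obj A).commShiftIso n).app T)
    fun {A B} φ => (NatTrans.shift_app_comm ((DCoh.tensorCx (X := X)).map φ) n T).symm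

/-- Tensoring with `j_! O` is `j_!` of the restriction, naturally, on complexes. -/
theorem nonempty_tensR_extUnit (j : U ⟶ X) [IsOpenImmersion j] :
    Nonempty (tensR ((jzCx j).obj (unitCx U)) ≅ resCx j ⋙ jzCx j) := by
  let T := (jzCx j).obj (unitCx U)
  let adj := KInj.mapComplexAdj (CxOX.extZeroAdj j) (ComplexShape.up ℤ)
  haveI : ∀ A, IsIso (adj.counit.app ((tensR T).obj A)) := fun A => by
    haveI := isIso_counit_tensor j A (unitCx U)
    exact (NatTrans.isIso_app_iff_of_iso adj.counit (((tensorFlipIso T).app A).symm)).1 (by assumption)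
  haveI : IsIso (Functor.whiskerLeft (tensR T) adj.counit) := @NatIso.isIso_of_isIso_app _ _ _ _ _ _ _ (fun A => this A)
  haveI := isIso_unit_cx j (unitCx U)
  let r : tensR ((resCx j).obj T) ≅ 𝟭 _ :=
    (DCoh.tensorCx (X := U)).flip.mapIso (asIso (adj.unit.app (unitCx U))).symm ≪≫ singleUnitNatIso
  exact ⟨(asIso (Functor.whiskerLeft (tensR T) adj.counit)).symm ≪≫
    (Functor.isoWhiskerRight (resTensNatIso j T) (jzCx j) :
      tensR T ⋙ resCx j ⋙ jzCx j ≅ (resCx j ⋙ tensR ((resCx j).obj T)) ⋙ jzCx j) ≪≫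
    (Functor.isoWhiskerLeft (resCx j) (Functor.isoWhiskerRight r (jzCx j)) :
      resCx j ⋙ tensR ((resCx j).obj T) ⋙ jzCx j ≅ resCx j ⋙ 𝟭 _ ⋙ jzCx j)⟩

/-- Tensoring with a shift of `j_! O` on the derived category. -/
theorem exists_extUnit_ltensor (j : U ⟶ X) [IsOpenImmersion j] (n : ℤ) :
    ∃ (T : CochainComplex X.Modules ℤ) (_ : DCoh.HasLTensorCx T),
      Nonempty (DCoh.LTensorCx T ≅ (resD j ⋙ CxOX.extZeroD j) ⋙ shiftFunctor (DCoh.D X) n) := by
  let T0 := (jzCx j).obj (unitCx U)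
  have hT0 : DCoh.IsKFlat T0 := isKFlat_extZero j (isKFlat_single _ (flat_structureModule _) 0)
  let T := T0⟦n⟧
  have hT : DCoh.IsKFlat T := isKFlat_shift hT0 n
  haveI := hasLTensorCx T
  obtain ⟨a⟩ := nonempty_tensR_extUnit (X := X) j
  let W := HomologicalComplex.quasiIso X.Modules (ComplexShape.up ℤ)
  let F : CochainComplex X.Modules ℤ ⥤ DCoh.D X := tensR T ⋙ DerivedCategory.Q
  letI : Localization.Lifting DerivedCategory.Q W F (DCoh.LTensorCx T) := ⟨ltensorFac T hT⟩
  letI : Localization.Lifting DerivedCategory.Q W F ((resD j ⋙ CxOX.extZeroD j) ⋙ shiftFunctor (DCoh.D X) n) :=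
    ⟨(Functor.isoWhiskerRight (resDFac j) (CxOX.extZeroD j ⋙ shiftFunctor (DCoh.D X) n) :
        (DerivedCategory.Q ⋙ resD j) ⋙ CxOX.extZeroD j ⋙ shiftFunctor (DCoh.D X) n ≅
          (resCx j ⋙ DerivedCategory.Q) ⋙ CxOX.extZeroD j ⋙ shiftFunctor (DCoh.D X) n) ≪≫
      (Functor.isoWhiskerLeft (resCx j)
        (Functor.isoWhiskerRight (CxOX.extZero j).mapDerivedCategoryFactors (shiftFunctor (DCoh.D X) n)) :
        resCx j ⋙ (DerivedCategory.Q ⋙ CxOX.extZeroD j) ⋙ shiftFunctor (DCoh.D X) n ≅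
          resCx j ⋙ (jzCx j ⋙ DerivedCategory.Q) ⋙ shiftFunctor (DCoh.D X) n) ≪≫
      (Functor.isoWhiskerRight a.symm (DerivedCategory.Q ⋙ shiftFunctor (DCoh.D X) n) :
        (resCx j ⋙ jzCx j) ⋙ DerivedCategory.Q ⋙ shiftFunctor (DCoh.D X) n ≅
          tensR T0 ⋙ DerivedCategory.Q ⋙ shiftFunctor (DCoh.D X) n) ≪≫
      (Functor.isoWhiskerLeft (tensR T0) (DerivedCategory.Q.commShiftIso n).symm :
        tensR T0 ⋙ DerivedCategory.Q ⋙ shiftFunctor (DCoh.D X) n ≅
          tensR T0 ⋙ shiftFunctor (CochainComplex X.Modules ℤ) n ⋙ DerivedCategory.Q) ≪≫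
      (Functor.isoWhiskerRight (tensRShiftIso T0 n).symm DerivedCategory.Q :
        (tensR T0 ⋙ shiftFunctor (CochainComplex X.Modules ℤ) n) ⋙ DerivedCategory.Q ≅ F)⟩
  exact ⟨T, inferInstance, ⟨Localization.liftNatIso DerivedCategory.Q W F F _ _ (Iso.refl _)⟩⟩

/-- **The map into the double dual, locally.** -/
theorem exists_dual_map_local {G G' : DCoh.D X ⥤ DCoh.D X} (adj : DCoh.LTensorCx P ⊣ G) (hP : DCoh.IsKFlat P)
    (M : CochainComplex X.Modules ℤ) [DCoh.HasLTensorCx M] (adj' : DCoh.LTensorCx M ⊣ G') (K : DCoh.D X)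
    (e : DerivedCategory.Q.obj M ≅ G.obj K) :
    ∃ η : DerivedCategory.Q.obj P ⟶ G'.obj K, ∀ (U : Scheme.{u}) (j : U ⟶ X) [IsOpenImmersion j] (n : ℤ)
      (φ : (resD j).obj (DerivedCategory.Q.obj P) ⟶ ((resD j).obj K)⟦n⟧), ∃ ψ, (resD j).map η ≫ ψ = φ := by
  obtain ⟨η, hη⟩ := exists_dual_map hP adj M adj' K e
  refine ⟨η, fun U j _ n φ => ?_⟩
  obtain ⟨T, _, ⟨t⟩⟩ := exists_extUnit_ltensor (X := X) j (-n)
  let E := ((extZeroDAdj j).comp ((shiftEquiv (DCoh.D X) n).symm).toAdjunction).ofNatIsoLeft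
    (Iso.refl (CxOX.extZeroD j ⋙ shiftFunctor (DCoh.D X) (-n)))
  let φ' : (resD j).obj (DerivedCategory.Q.obj P) ⟶ (resD j).obj (K⟦n⟧) := φ ≫ ((resD j).commShiftIso n).inv.app K
  let f := t.hom.app (DerivedCategory.Q.obj P) ≫ (E.homEquiv _ _).symm φ'
  obtain ⟨g, hg⟩ := hη T f
  refine ⟨E.homEquiv _ _ (t.inv.app _ ≫ g) ≫ ((resD j).commShiftIso n).hom.app K, ?_⟩
  have h : (CxOX.extZeroD j ⋙ shiftFunctor (DCoh.D X) (-n)).map ((resD j).map η) ≫ t.inv.app _ ≫ g =
      (E.homEquiv _ _).symm φ' := by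
    rw [← cancel_epi (t.hom.app (DerivedCategory.Q.obj P))]
    have h1 : t.hom.app (DerivedCategory.Q.obj P) ≫
        (CxOX.extZeroD j ⋙ shiftFunctor (DCoh.D X) (-n)).map ((resD j).map η) =
          (DCoh.LTensorCx T).map η ≫ t.hom.app _ := (t.hom.naturality η).symm
    exact ((Category.assoc _ _ _).symm.trans ((congrArg (· ≫ _) h1).trans (Category.assoc _ _ _))).trans
      ((congrArg (_ ≫ ·) (t.hom_inv_id_app_assoc _ g)).trans hg)
  have h' := congrArg (E.homEquiv _ _) h
  rw [Adjunction.homEquiv_naturality_left, Equiv.apply_symm_apply] at h'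
  rw [reassoc_of% h']
  simp only [φ']
  exact (Category.assoc _ _ _).trans
    ((congrArg (φ ≫ ·) (((resD j).commShiftIso n).inv_hom_id_app K)).trans (Category.comp_id _))

end GrothLib.Dual22
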